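import Groth.Agent.Lib.HopfRedH28.Basic
import Groth.Agent.Lib.SmoothReg17.Basic
import Groth.Agent.Lib.VarDim.Alg
import Mathlib.RingTheory.HopfAlgebra.Convolution
import Mathlib.RingTheory.Jacobson.Ring
import Mathlib.FieldTheory.IsAlgClosed.Basic

/-!
# The local rings of an algebraic group at rational points
-/

open TensorProduct WithConv CategoryTheory AlgebraicGeometry

universe u

namespace Groth.Agent.FreeOrbH28

variable {k : Type u} [Field k]

lemma exists_point_of_isMaximal [IsAlgClosed k] {A : Type u} [CommRing A] [Algebra k A]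
    [Algebra.FiniteType k A] (M : Ideal A) [M.IsMaximal] : ∃ h : A →ₐ[k] k, RingHom.ker h = M := by
  letI := Ideal.Quotient.field M
  haveI : Algebra.FiniteType k (A ⧸ M) :=
    (inferInstance : Algebra.FiniteType k A).of_surjective (Ideal.Quotient.mkₐ k M) Ideal.Quotient.mk_surjective
  haveI : Module.Finite k (A ⧸ M) := finite_of_finite_type_of_isJacobsonRing k (A ⧸ M)
  let e : k ≃ₐ[k] A ⧸ M := AlgEquiv.ofBijective (Algebra.ofId k (A ⧸ M))
    (IsAlgClosed.algebraMap_bijective_of_isIntegral (k := k) (K := A ⧸ M))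
  refine ⟨e.symm.toAlgHom.comp (Ideal.Quotient.mkₐ k M), ?_⟩
  ext y
  rw [RingHom.mem_ker]
  show e.symm (Ideal.Quotient.mk M y) = 0 ↔ y ∈ M
  rw [EmbeddingLike.map_eq_zero_iff, Ideal.Quotient.eq_zero_iff_mem]

variable [IsAlgClosed k] {A : Type u} [CommRing A] [HopfAlgebra k A] [Algebra.FiniteType k A]

/-- Translation by a rational point. -/
noncomputable def tr (g : WithConv (A →ₐ[k] k)) : A →ₐ[k] A :=
  (Algebra.TensorProduct.lid k A).toAlgHom.comp
    ((Algebra.TensorProduct.map g.ofConv (AlgHom.id k A)).comp (Bialgebra.comulAlgHom k A))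

lemma apply_tr (g h : WithConv (A →ₐ[k] k)) (y : A) : h.ofConv (tr g y) = (g * h).ofConv y := by
  rw [AlgHom.convMul_apply]
  simp only [tr, AlgHom.comp_apply, Bialgebra.comulAlgHom_apply]
  generalize CoalgebraStruct.comul (R := k) y = z
  induction z with
  | zero => simp
  | tmul r a => simp
  | add p q hp hq => simp only [map_add, hp, hq]

lemma ext_points [CharZero k] {y z : A} (h : ∀ g : A →ₐ[k] k, g y = g z) : y = z := by
  haveI := HopfRedH28.isReduced_of_charZero k A
  haveI : IsJacobsonRing A := isJacobsonRing_of_finiteType (A := k)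
  rw [← sub_eq_zero]
  have hJ : (⊥ : Ideal A).jacobson = ⊥ := IsJacobsonRing.out inferInstance (Ideal.isRadical_bot_iff.2 inferInstance)
  have : y - z ∈ (⊥ : Ideal A).jacobson := by
    rw [Ideal.jacobson, Ideal.mem_sInf]
    rintro M ⟨-, hM⟩
    haveI := hM
    obtain ⟨g, hg⟩ := exists_point_of_isMaximal (k := k) M
    rw [← hg, RingHom.mem_ker, map_sub, h g, sub_self]
  rwa [hJ] at this

/-- Translation as an automorphism. -/
noncomputable def trEquiv [CharZero k] (g : WithConv (A →ₐ[k] k)) : A ≃ₐ[k] A :=
  AlgEquiv.ofAlgHom (tr g) (tr g⁻¹)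
    (AlgHom.ext fun y => ext_points fun h => by
      show (toConv h).ofConv (tr g (tr g⁻¹ y)) = h y
      rw [apply_tr, apply_tr, ← mul_assoc, inv_mul_cancel, one_mul])
    (AlgHom.ext fun y => ext_points fun h => by
      show (toConv h).ofConv (tr g⁻¹ (tr g y)) = h y
      rw [apply_tr, apply_tr, ← mul_assoc, mul_inv_cancel, one_mul])

/-- All maximal ideals of the group have the same height, the dimension. -/
theorem height_eq_ringKrullDim [CharZero k] (M : Ideal A) [hM : M.IsMaximal] :
    (M.height : WithBot ℕ∞) = ringKrullDim A := by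
  refine le_antisymm (Ideal.height_le_ringKrullDim_of_ne_top hM.ne_top) ?_
  rw [ringKrullDim_le_iff_isMaximal_height_le]
  intro N hN
  obtain ⟨h, hh⟩ := exists_point_of_isMaximal (k := k) M
  obtain ⟨g, hg⟩ := exists_point_of_isMaximal (k := k) N
  let e := trEquiv (toConv g * (toConv h)⁻¹)
  have hcomap : N = M.comap e.toRingEquiv.toRingHom := by
    rw [← hg, ← hh]
    ext y
    show g y = 0 ↔ (toConv h).ofConv (tr (toConv g * (toConv h)⁻¹) y) = 0
    rw [apply_tr, mul_assoc, inv_mul_cancel, mul_one]
  refine le_of_eq (congrArg _ ?_)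
  rw [hcomap]
  exact RingEquiv.height_comap e.toRingEquiv M

/-- The local rings of the group are regular. -/
theorem isRegularLocalRing_atPrime [CharZero k] (P : Ideal A) [P.IsPrime] :
    IsRegularLocalRing (Localization.AtPrime P) := by
  let G := (Spec (CommRingCat.of A)).asOver (Spec (CommRingCat.of k))
  haveI : LocallyOfFiniteType G.hom := by
    show LocallyOfFiniteType (Spec.map (CommRingCat.ofHom (algebraMap k A)))
    rw [HasRingHomProperty.Spec_iff (P := @LocallyOfFiniteType)]
    exact RingHom.finiteType_algebraMap.2 inferInstance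
  have hs : Smooth G.hom := Groth.Agent.Cartier.smooth_of_charZero (K := k) G
  change Smooth (Spec.map (CommRingCat.ofHom (algebraMap k A))) at hs
  rw [HasRingHomProperty.Spec_iff (P := @Smooth)] at hs
  exact SmoothReg17.isRegularLocalRing_of_smooth (algebraMap k A) hs P

end Groth.Agent.FreeOrbH28
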